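import Groth.Agent.L11.Magnet.Homotopy
import Groth.Agent.L11.Magnet.Limit
import Mathlib.RingTheory.Polynomial.Basic
import Mathlib.AlgebraicGeometry.ResidueField
import Mathlib.Topology.Connected.Clopen

/-!
# Fibres of face projections are connected
-/

set_option autoImplicit false
universe u

open CategoryTheory CategoryTheory.Limits MonoidalCategory CartesianMonoidalCategory MonObj AlgebraicGeometry Opposite

set_option backward.isDefEq.respectTransparency.types false

noncomputable section

namespace Groth.L09.MagnetAtlas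

open _root_.Magnet
open Groth.L11.Magnet

variable {S : Scheme.{u}} {M : Type} [AddCommGroup M] {X : Over S} (a : MonAct (AMonS S M) X)
  {N F : AddSubmonoid M}

theorem attrFace_homotopy (hF : IsFace N F) (d : N →+ ℕ) (hd : ∀ n : N, d n = 0 ↔ (n : M) ∈ F) (T : Over S)
    (x : (attr a N).obj (op T)) (c : Γ(T.left, ⊤)) :
    (attrFace a hF).app (op T) (homotopy a d T x c) = (attrFace a hF).app (op T) x := by
  refine Subtype.ext ?_
  show (AMonS.faceMap S hF ▷ T) ≫ lift (fst _ _ * (snd _ _ ≫ weightPt d c)) (snd _ _) ≫ x.1 =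
    (AMonS.faceMap S hF ▷ T) ≫ x.1
  rw [← Category.assoc]
  congr 1
  apply CartesianMonoidalCategory.hom_ext
  · rw [Category.assoc, lift_fst, whiskerRight_fst, MonObj.comp_mul, whiskerRight_fst, whiskerRight_snd_assoc]
    apply MPts.char_injective
    refine MonoidHom.ext fun n => ?_
    obtain ⟨n', rfl⟩ : ∃ k, Multiplicative.ofAdd k = n := ⟨n.toAdd, rfl⟩
    rw [MPts.char_mul, MonoidHom.mul_apply, comp_weightPt, char_weightPt, toAdd_ofAdd]
    by_cases h : (n' : M) ∈ F
    · rw [(hd n').2 h, pow_zero, _root_.mul_one]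
    · rw [char_faceMap_of_not_mem hF _ n' h, zero_mul]
  · rw [Category.assoc, lift_snd]

variable [AddGroup.FG M] (hN : N.FG) (hF : IsFace N F) {ZN Z0 : Over S}
  (eN : (attr a N).RepresentableBy ZN) (e0 : (attr a F).RepresentableBy Z0) (j : ZN ⟶ Z0)
  (hj : ∀ (T : Over S) (z : T ⟶ ZN), e0.homEquiv (z ≫ j) = (attrFace a hF).app (op T) (eN.homEquiv z))

/-- The section of the face projection. -/
def faceSec : Z0 ⟶ ZN := eN.homEquiv.symm ((attrMap a hF.le).app (op Z0) (e0.homEquiv (𝟙 Z0)))

include hj in
theorem faceSec_comp : faceSec a hF eN e0 ≫ j = 𝟙 Z0 := by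
  apply e0.homEquiv.injective
  rw [hj, faceSec, Equiv.apply_symm_apply]
  exact congrArg (fun k => k.app (op Z0) (e0.homEquiv (𝟙 Z0))) (attrMap_comp_attrFace a hF)

theorem comp_faceSec {T : Over S} (z : T ⟶ Z0) :
    eN.homEquiv (z ≫ faceSec a hF eN e0) = (attrMap a hF.le).app (op T) (e0.homEquiv z) := by
  rw [eN.homEquiv_comp, faceSec, Equiv.apply_symm_apply, ← NatTrans.naturality_apply, ← e0.homEquiv_comp,
    Category.comp_id]

open scoped Polynomial

include hN hj in
/-- A point valued in a field is joined to the section by an affine line inside its fibre. -/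
theorem exists_line (L : Type u) [Field L] (z : Spec (CommRingCat.of L) ⟶ ZN.left) :
    ∃ h : Spec (CommRingCat.of L[X]) ⟶ ZN.left,
      h ≫ j.left = Spec.map (CommRingCat.ofHom Polynomial.C) ≫ z ≫ j.left ∧
      Spec.map (CommRingCat.ofHom (Polynomial.evalRingHom (1 : L))) ≫ h = z ∧
      Spec.map (CommRingCat.ofHom (Polynomial.evalRingHom (0 : L))) ≫ h = z ≫ j.left ≫ (faceSec a hF eN e0).left := by
  obtain ⟨d, hd⟩ := exists_face_weight hN hF
  let T : Over S := Over.mk (z ≫ ZN.hom)
  let T' : Over S := Over.mk (Spec.map (CommRingCat.ofHom (Polynomial.C : L →+* L[X])) ≫ z ≫ ZN.hom)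
  let π : T' ⟶ T := Over.homMk (Spec.map (CommRingCat.ofHom (Polynomial.C : L →+* L[X]))) rfl
  let zT : T ⟶ ZN := Over.homMk z rfl
  let c : Γ(T'.left, ⊤) := (Scheme.ΓSpecIso (CommRingCat.of L[X])).inv Polynomial.X
  let h : T' ⟶ ZN := eN.homEquiv.symm (homotopy a d T' (eN.homEquiv (π ≫ zT)) c)
  have hev : ∀ t : L, Spec.map (CommRingCat.ofHom (Polynomial.evalRingHom t)) ≫
      Spec.map (CommRingCat.ofHom (Polynomial.C : L →+* L[X])) = 𝟙 _ := fun t => by
    rw [← Spec.map_comp, ← CommRingCat.ofHom_comp,
      show (Polynomial.evalRingHom t).comp Polynomial.C = RingHom.id L from RingHom.ext fun _ => by simp]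
    exact Spec.map_id _
  let ev : ∀ t : L, T ⟶ T' := fun t => Over.homMk (Spec.map (CommRingCat.ofHom (Polynomial.evalRingHom t))) (by
    show Spec.map _ ≫ Spec.map _ ≫ z ≫ ZN.hom = z ≫ ZN.hom
    rw [← Category.assoc, hev, Category.id_comp])
  have hevπ : ∀ t, ev t ≫ π = 𝟙 T := fun t => Over.OverMorphism.ext (hev t)
  have hc : ∀ t, (ev t).left.appTop c = (Scheme.ΓSpecIso (CommRingCat.of L)).inv t := fun t => by
    refine (appTop_specMap (Polynomial.evalRingHom t) Polynomial.X).trans (congrArg _ ?_)
    simp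
  have hpt : ∀ t, eN.homEquiv (ev t ≫ h) =
      homotopy a d T (eN.homEquiv zT) ((Scheme.ΓSpecIso (CommRingCat.of L)).inv t) := by
    intro t
    rw [eN.homEquiv_comp, Equiv.apply_symm_apply, ← hc, eN.homEquiv_comp π zT]
    refine Eq.trans ?_ (congrArg (fun x => homotopy a d T x ((ev t).left.appTop c))
      (show (attr a N).map (ev t).op ((attr a N).map π.op (eN.homEquiv zT)) = eN.homEquiv zT by
        rw [← Functor.map_comp_apply, ← op_comp, hevπ, op_id, Functor.map_id_apply]))
    exact (homotopy_natural a d (ev t) ((attr a N).map π.op (eN.homEquiv zT)) c).symm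
  refine ⟨h.left, congrArg Over.Hom.left (show h ≫ j = π ≫ zT ≫ j from e0.homEquiv.injective ?_), ?_, ?_⟩
  · rw [hj, Equiv.apply_symm_apply, attrFace_homotopy a hF d hd, ← hj, Category.assoc]
  · refine congrArg Over.Hom.left (show ev 1 ≫ h = zT from eN.homEquiv.injective ?_)
    rw [hpt, map_one]
    exact homotopy_one a d _
  · refine congrArg Over.Hom.left (show ev 0 ≫ h = zT ≫ j ≫ faceSec a hF eN e0 from eN.homEquiv.injective ?_)
    rw [hpt, map_zero, homotopy_zero a hF d hd, ← Category.assoc, comp_faceSec, hj]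
where
  homotopy_natural {X : Over S} (a : MonAct (AMonS S M) X) {N : AddSubmonoid M} (d : N →+ ℕ) {T T' : Over S}
      (t : T' ⟶ T) (x : (attr a N).obj (op T)) (c : Γ(T.left, ⊤)) :
      homotopy a d T' ((attr a N).map t.op x) (t.left.appTop c) = (attr a N).map t.op (homotopy a d T x c) := by
    refine Subtype.ext ?_
    show lift (fst _ _ * (snd _ _ ≫ weightPt d (t.left.appTop c))) (snd _ _) ≫ (AMonS S N ◁ t) ≫ x.1 =
      (AMonS S N ◁ t) ≫ lift (fst _ _ * (snd _ _ ≫ weightPt d c)) (snd _ _) ≫ x.1
    rw [← comp_weightPt, lift_whiskerLeft_assoc, comp_lift_assoc, MonObj.comp_mul, whiskerLeft_fst,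
      whiskerLeft_snd, whiskerLeft_snd_assoc]
  homotopy_one {X : Over S} (a : MonAct (AMonS S M) X) {N : AddSubmonoid M} (d : N →+ ℕ) {T : Over S}
      (x : (attr a N).obj (op T)) : homotopy a d T x 1 = x := by
    refine Subtype.ext ?_
    show lift (fst _ _ * (snd _ _ ≫ weightPt d 1)) (snd _ _) ≫ x.1 = x.1
    have : weightPt (S := S) (T := T) d 1 = 1 := by
      apply MPts.char_injective
      refine MonoidHom.ext fun n => ?_
      rw [char_weightPt, MPts.char_one, one_pow]
      rfl
    rw [this, MonObj.comp_one, _root_.mul_one, lift_fst_snd, Category.id_comp]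
  homotopy_zero {X : Over S} (a : MonAct (AMonS S M) X) {N F : AddSubmonoid M} (hF : IsFace N F) (d : N →+ ℕ)
      (hd : ∀ n : N, d n = 0 ↔ (n : M) ∈ F) {T : Over S} (x : (attr a N).obj (op T)) :
      homotopy a d T x 0 = (attrMap a hF.le).app (op T) ((attrFace a hF).app (op T) x) := by
    refine Subtype.ext ?_
    show lift (fst _ _ * (snd _ _ ≫ weightPt d 0)) (snd _ _) ≫ x.1 =
      (AMonS.map S (AddSubmonoid.inclusion hF.le) ▷ T) ≫ (AMonS.faceMap S hF ▷ T) ≫ x.1
    rw [← Category.assoc (AMonS.map S _ ▷ T)]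
    congr 1
    apply CartesianMonoidalCategory.hom_ext
    · rw [lift_fst, ← comp_whiskerRight, whiskerRight_fst]
      apply MPts.char_injective
      refine MonoidHom.ext fun n => ?_
      obtain ⟨n', rfl⟩ : ∃ k, Multiplicative.ofAdd k = n := ⟨n.toAdd, rfl⟩
      rw [MPts.char_mul, MonoidHom.mul_apply, comp_weightPt, char_weightPt, map_zero, toAdd_ofAdd,
        ← Category.assoc]
      by_cases h : (n' : M) ∈ F
      · rw [char_faceMap_of_mem hF _ n' h, MPts.char_map, (hd n').2 h, pow_zero, _root_.mul_one]
        rfl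
      · rw [char_faceMap_of_not_mem hF _ n' h, zero_pow fun e => h ((hd n').1 e), mul_zero]
    · rw [lift_snd, ← comp_whiskerRight, whiskerRight_snd]

theorem isPreconnected_range_polynomial {L : Type u} [Field L] {P : Scheme.{u}}
    (h : Spec (CommRingCat.of L[X]) ⟶ P) : _root_.IsPreconnected (Set.range h) :=
  haveI : IrreducibleSpace ↥(Spec (CommRingCat.of L[X])) := inferInstance
  isPreconnected_range h.continuous

include hN hj in
/-- Fibres of the face projection over field valued points are connected. -/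
theorem connectedSpace_fibre (K : Type u) [Field K] (k : Spec (CommRingCat.of K) ⟶ Z0.left) :
    ConnectedSpace ↥(pullback j.left k) := by
  have hs : (faceSec a hF eN e0).left ≫ j.left = 𝟙 _ := congrArg Over.Hom.left (faceSec_comp a hF eN e0 j hj)
  let σ : Spec (CommRingCat.of K) ⟶ pullback j.left k :=
    pullback.lift (k ≫ (faceSec a hF eN e0).left) (𝟙 _) (by rw [Category.assoc, hs, Category.comp_id, Category.id_comp])
  obtain ⟨x₀⟩ : Nonempty ↥(Spec (CommRingCat.of K)) := inferInstance
  refine connectedSpace_iff_connectedComponent.2 ⟨σ x₀, Set.eq_univ_of_forall fun p => ?_⟩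
  let L := (pullback j.left k).residueField p
  let zp : Spec (CommRingCat.of L) ⟶ pullback j.left k := (pullback j.left k).fromSpecResidueField p
  obtain ⟨h, h₁, h₂, h₃⟩ := exists_line a hN hF eN e0 j hj L (zp ≫ pullback.fst _ _)
  let H : Spec (CommRingCat.of (Polynomial L)) ⟶ pullback j.left k :=
    pullback.lift h (Spec.map (CommRingCat.ofHom Polynomial.C) ≫ zp ≫ pullback.snd _ _)
      (by rw [h₁]; simp [pullback.condition])
  have hev : ∀ t : L, Spec.map (CommRingCat.ofHom (Polynomial.evalRingHom t)) ≫
      Spec.map (CommRingCat.ofHom (Polynomial.C : L →+* Polynomial L)) = 𝟙 _ := fun t => by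
    rw [← Spec.map_comp, ← CommRingCat.ofHom_comp,
      show (Polynomial.evalRingHom t).comp Polynomial.C = RingHom.id L from RingHom.ext fun _ => by simp]
    exact Spec.map_id _
  have e1 : Spec.map (CommRingCat.ofHom (Polynomial.evalRingHom (1 : L))) ≫ H = zp := by
    apply pullback.hom_ext
    · rw [Category.assoc, pullback.lift_fst, h₂]
    · rw [Category.assoc, pullback.lift_snd, reassoc_of% hev]
  have e0' : Spec.map (CommRingCat.ofHom (Polynomial.evalRingHom (0 : L))) ≫ H = (zp ≫ pullback.snd _ _) ≫ σ := by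
    apply pullback.hom_ext
    · rw [Category.assoc, pullback.lift_fst, h₃, Category.assoc, Category.assoc, Category.assoc, pullback.lift_fst,
        pullback.condition_assoc]
    · rw [Category.assoc, pullback.lift_snd, reassoc_of% hev, Category.assoc, Category.assoc, pullback.lift_snd,
        Category.comp_id]
  obtain ⟨q⟩ : Nonempty ↥(Spec (CommRingCat.of L)) := inferInstance
  have hp : p ∈ Set.range H := by
    obtain ⟨y, hy⟩ : p ∈ Set.range zp := by
      rw [(pullback j.left k).range_fromSpecResidueField]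
      rfl
    exact ⟨_, (congrArg (fun f : _ ⟶ pullback j.left k => f y) e1).trans hy⟩
  have hσ : σ x₀ ∈ Set.range H :=
    ⟨_, (congrArg (fun f : _ ⟶ pullback j.left k => f q) e0').trans
      (congrArg σ (Subsingleton.elim _ x₀))⟩
  exact (isPreconnected_range_polynomial H).subset_connectedComponent hσ hp

include hN hj in
/-- The face projection is bijective on connected components. -/
theorem bijective_connectedComponentsMap :
    Function.Bijective (Continuous.connectedComponentsMap (Scheme.Hom.continuous j.left)) := by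
  have hs : (faceSec a hF eN e0).left ≫ j.left = 𝟙 _ := congrArg Over.Hom.left (faceSec_comp a hF eN e0 j hj)
  have key : ∀ x : ZN.left, connectedComponent x = connectedComponent ((faceSec a hF eN e0).left (j.left x)) := by
    intro x
    obtain ⟨h, -, h₂, h₃⟩ := exists_line a hN hF eN e0 j hj (ZN.left.residueField x)
      (ZN.left.fromSpecResidueField x)
    obtain ⟨y, hy⟩ : x ∈ Set.range (ZN.left.fromSpecResidueField x) := by
      rw [ZN.left.range_fromSpecResidueField]
      rfl
    have hx : x ∈ Set.range h := ⟨_, (congrArg (fun f : _ ⟶ ZN.left => f y) h₂).trans hy⟩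
    have hx' : (faceSec a hF eN e0).left (j.left x) ∈ Set.range h :=
      ⟨_, (congrArg (fun f : _ ⟶ ZN.left => f y) h₃).trans
        (congrArg (fun w => (faceSec a hF eN e0).left (j.left w)) hy)⟩
    exact (connectedComponent_eq ((isPreconnected_range_polynomial h).subset_connectedComponent hx' hx)).symm
  refine ⟨?_, ?_⟩
  · refine Quotient.ind₂ fun x y e => ?_
    refine Quotient.sound (?_ : connectedComponent x = connectedComponent y)
    rw [key x, key y]
    have e' : connectedComponent (j.left x) = connectedComponent (j.left y) := ConnectedComponents.coe_eq_coe.1 e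
    refine connectedComponent_eq ?_
    exact (faceSec a hF eN e0).left.continuous.image_connectedComponent_subset (j.left x)
      ⟨j.left y, e' ▸ mem_connectedComponent, rfl⟩
  · refine Quotient.ind fun y => ⟨ConnectedComponents.mk ((faceSec a hF eN e0).left y), ?_⟩
    exact congrArg ConnectedComponents.mk (congrArg (fun f : _ ⟶ Z0.left => f y) hs)

end Groth.L09.MagnetAtlas
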