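import Groth.Agent.L11.Magnet.AtlasRep
import Groth.Agent.L11.Magnet.Pure

/-!
# Images of attractors along atlases reflecting fixed points
-/

set_option autoImplicit false
universe u

open CategoryTheory CategoryTheory.Limits MonoidalCategory CartesianMonoidalCategory AlgebraicGeometry Opposite

set_option backward.isDefEq.respectTransparency.types false

noncomputable section

namespace Groth.L09.MagnetAtlas

open _root_.Magnet
open Groth.L11.Magnet

variable {S : Scheme.{u}} {M : Type} [AddCommGroup M] {X U : Over S}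
  {aX : MonAct (AMonS S M) X} {aU : MonAct (AMonS S M) U} {f : U ⟶ X}

theorem mem_unitFace_iff (N : AddSubmonoid M) (x : M) : x ∈ unitFace N ↔ x ∈ N ∧ -x ∈ N := by
  rw [mem_unitFace]
  constructor
  · rintro ⟨hx, y, hy, e⟩
    rw [neg_eq_of_add_eq_zero_right e]
    exact ⟨hx, hy⟩
  · rintro ⟨hx, hy⟩
    exact ⟨hx, -x, hy, add_neg_cancel x⟩

/-- The units of a monoid as a subgroup. -/
def unitGroup (N : AddSubmonoid M) : AddSubgroup M :=
  { unitFace N with
    neg_mem' := fun {x} hx => by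
      have h : x ∈ N ∧ -x ∈ N := (mem_unitFace_iff N x).1 hx
      exact (mem_unitFace_iff N (-x)).2 ⟨h.2, by simpa using h.1⟩ }

theorem mem_unitGroup {N : AddSubmonoid M} {x : M} : x ∈ unitGroup N ↔ x ∈ N ∧ -x ∈ N := mem_unitFace_iff N x

/-- If a magnet has smaller image on an atlas reflecting fixed points, it has smaller image. -/
theorem inAttr_of_atlas [IsSeparated X.hom] [LocallyOfFinitePresentation X.hom] [IsAffineHom U.hom]
    [Etale f.left] [Surjective f.left] (hf : MonAct.IsEquivariant aU aX f) {N L : AddSubmonoid M}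
    (Z : AddSubgroup M) (hZ : Z.toAddSubmonoid = unitFace N)
    (hfZ : MonAct.IsEquivariant (aU.restrict (AMonS.map S (QuotientAddGroup.mk' Z)))
      (aX.restrict (AMonS.map S (QuotientAddGroup.mk' Z))) f)
    (hfpr : IsPullback (MonAct.fixedPsh.map f hfZ)
      (MonAct.fixedPshι (aU.restrict (AMonS.map S (QuotientAddGroup.mk' Z))))
      (MonAct.fixedPshι (aX.restrict (AMonS.map S (QuotientAddGroup.mk' Z)))) (yoneda.map f))
    (hU : ∀ (T : Over S) (v : T ⟶ U), InAttr aU N T v → InAttr aU L T v)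
    (T : Over S) (x : T ⟶ X) (hx : InAttr aX N T x) : InAttr aX L T x := by
  obtain ⟨φ, rfl⟩ := hx
  have hQ : IsFace N Z.toAddSubmonoid := hZ ▸ isFace_unitFace N
  obtain ⟨εU, hεU⟩ := exists_attr_iso_fixedPsh Z aU
  obtain ⟨εX, hεX⟩ := exists_attr_iso_fixedPsh Z aX
  let ψ := (attrFace aX hQ).app (op T) φ
  let x₀ : T ⟶ X := (attrToX aX Z.toAddSubmonoid).app (op T) ψ
  let T' : Over S := Over.mk (pullback.fst x₀.left f.left ≫ T.hom)
  let k : T' ⟶ T := Over.homMk (pullback.fst x₀.left f.left) rfl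
  let u₀ : T' ⟶ U := Over.homMk (pullback.snd x₀.left f.left) (by
    show pullback.snd x₀.left f.left ≫ U.hom = _ ≫ T.hom
    rw [← Over.w f, ← pullback.condition_assoc, Over.w x₀])
  have he : k ≫ x₀ = u₀ ≫ f := Over.OverMorphism.ext pullback.condition
  obtain ⟨w, hw₁, hw₂⟩ := Types.exists_of_isPullback (hfpr.app (op T'))
    (εX.hom.app (op T') ((attr aX Z.toAddSubmonoid).map k.op ψ)) u₀ (by
      refine Eq.trans ?_ he
      rw [← attrToX_map, ← hεX]
      rfl)
  let ψ' : (attr aU Z.toAddSubmonoid).obj (op T') := εU.inv.app (op T') w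
  have hψ' : (attrToX aU Z.toAddSubmonoid).app (op T') ψ' = u₀ := by
    rw [← hεU]
    show (MonAct.fixedPshι _).app (op T') (εU.hom.app (op T') (εU.inv.app (op T') w)) = _
    rw [Iso.inv_hom_id_app_apply]
    exact hw₂
  have hpost : (MonAct.eqvHom.postcomp (subAct S M Z.toAddSubmonoid) f hf).app (op T') ψ' =
      (attr aX Z.toAddSubmonoid).map k.op ψ := by
    refine attrToX_injective aX _ ?_
    rw [attrToX_postcomp, hψ', attrToX_map]
    exact he.symm
  have hsq : IsPullback (MonAct.eqvHom.postcomp (subAct S M N) f hf) (attrFace aU hQ) (attrFace aX hQ)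
      (MonAct.eqvHom.postcomp (subAct S M Z.toAddSubmonoid) f hf) :=
    isPullback_attrFace_etale hf hQ (Or.inr ⟨inferInstance, inferInstance⟩)
  have hkey : (attrFace aX hQ).app (op T') ((attr aX N).map k.op φ) =
      (MonAct.eqvHom.postcomp (subAct S M Z.toAddSubmonoid) f hf).app (op T') ψ' := by
    rw [hpost]
    exact NatTrans.naturality_apply (attrFace aX hQ) k.op φ
  obtain ⟨φ', hφ₁, -⟩ := Types.exists_of_isPullback (hsq.app (op T')) ((attr aX N).map k.op φ) ψ' hkey
  obtain ⟨χ, hχ⟩ := hU T' _ ⟨φ', rfl⟩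
  refine InAttr.of_cover (fun _ : PUnit.{u + 1} => T') (fun _ => k)
    (fun _ => inferInstanceAs (Flat (pullback.fst x₀.left f.left)))
    (fun _ => inferInstanceAs (LocallyOfFinitePresentation (pullback.fst x₀.left f.left)))
    (fun t => ⟨⟨⟩, (pullback.fst x₀.left f.left).surjective t⟩)
    fun _ => ⟨(MonAct.eqvHom.postcomp (subAct S M L) f hf).app (op T') χ, ?_⟩
  rw [attrToX_postcomp, hχ, ← attrToX_postcomp f hf, hφ₁, attrToX_map]

variable (aU)

/-- Finitely many degrees cut out the images of all attractors of an affine scheme of finite type. -/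
theorem exists_degrees_image [CompactSpace S] [IsAffineHom U.hom] [LocallyOfFiniteType U.hom] :
    ∃ E : Finset M, ∀ N L : AddSubmonoid M, (∀ d ∈ E, d ∈ N → d ∈ L) →
      ∀ (T : Over S) (v : T ⟶ U), InAttr aU N T v → InAttr aU L T v := by
  classical
  choose D hD using fun W : S.affineOpens => exists_degrees aU W.2
  obtain ⟨K, hK⟩ := isCompact_univ.elim_finite_subcover (fun W : S.affineOpens => (W.1 : Set S)) (fun W => W.1.2)
    (fun p _ => by
      obtain ⟨W, hW, hp, -⟩ := exists_isAffineOpen_mem_and_subset (X := S) (x := p) (U := ⊤) trivial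
      exact Set.mem_iUnion.2 ⟨⟨W, hW⟩, hp⟩)
  refine ⟨K.biUnion D, fun N L hNL T v hv => ?_⟩
  have hT : ∀ t : T.left, ∃ (V : T.left.Opens) (_ : IsAffineOpen V) (W : S.affineOpens),
      W ∈ K ∧ t ∈ V ∧ V ≤ T.hom ⁻¹ᵁ W.1 := by
    intro t
    obtain ⟨W, hW, ht⟩ := Set.mem_iUnion₂.1 (hK (Set.mem_univ (T.hom t)))
    obtain ⟨V, hV, htV, hVW⟩ := exists_isAffineOpen_mem_and_subset (X := T.left) (x := t) (U := T.hom ⁻¹ᵁ W.1) ht
    exact ⟨V, hV, W, hW, htV, hVW⟩
  choose V hV W hW htV hVW using hT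
  let k : ∀ t, Over.mk ((hV t).fromSpec ≫ T.hom) ⟶ T := fun t => Over.homMk (hV t).fromSpec rfl
  refine InAttr.of_cover _ k
    (fun t => inferInstanceAs (Flat (hV t).fromSpec))
    (fun t => inferInstanceAs (LocallyOfFinitePresentation (hV t).fromSpec))
    (fun t => ⟨t, by
      show t ∈ Set.range (hV t).fromSpec
      rw [(hV t).range_fromSpec]
      exact htV t⟩)
    fun t => hD (W t) N L (fun d hd => hNL d (Finset.mem_biUnion.2 ⟨W t, hW t, hd⟩)) _ (by
      rintro - ⟨y, rfl⟩
      refine hVW t (?_ : (hV t).fromSpec y ∈ (V t : Set T.left))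
      rw [← (hV t).range_fromSpec]
      exact ⟨y, rfl⟩) _ (hv.comp (k t))

end Groth.L09.MagnetAtlas
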