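import Groth.Agent.L11.Magnet.OpenStable
import Groth.Agent.L25.HomScheme.Family
import Groth.Agent.L25.HomScheme.Sigma

/-!
# Gluing spaces of equivariant maps along stable opens
-/

set_option autoImplicit false
universe u

open CategoryTheory CategoryTheory.Limits MonoidalCategory CartesianMonoidalCategory MonObj AlgebraicGeometry Opposite

set_option backward.isDefEq.respectTransparency.types false

noncomputable section

namespace Groth.L09.MagnetAtlas

open _root_.Magnet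
open Groth.L20.SchDesc
open Groth.L25.HomScheme

variable {S : Scheme.{u}}

theorem epi_whiskerLeft_of_cov (H : Over S) {T T' : Over S} (q : T' ⟶ T) [Cov q.left] : Epi (H ◁ q) := by
  have : Cov (H ◁ q).left := Cov.of_isPullback (Groth.L25.HomScheme.isPullback_whiskerLeft H q).flip
  have : Epi (H ◁ q).left := Cov.epi _
  exact Over.epi_of_epi_left _

theorem exists_desc_whiskerLeft (H X : Over S) {T T' : Over S} (q : T' ⟶ T) [Cov q.left] (x : H ⊗ T' ⟶ X)
    (hx : ∀ (Z : Over S) (a b : Z ⟶ T'), a ≫ q = b ≫ q → (H ◁ a) ≫ x = (H ◁ b) ≫ x) :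
    ∃ m : H ⊗ T ⟶ X, (H ◁ q) ≫ m = x := by
  have : Cov (H ◁ q).left := Cov.of_isPullback (Groth.L25.HomScheme.isPullback_whiskerLeft H q).flip
  obtain ⟨m, hm⟩ := Cov.exists_desc (p := (H ◁ q).left) x.left fun {Z} g₁ g₂ hg => by
    let a : Over.mk ((g₁ ≫ (H ◁ q).left) ≫ (H ⊗ T).hom) ⟶ H ⊗ T' := Over.homMk g₁
      ((congrArg (g₁ ≫ ·) (Over.w (H ◁ q)).symm).trans (Category.assoc _ _ _).symm)
    let b : Over.mk ((g₁ ≫ (H ◁ q).left) ≫ (H ⊗ T).hom) ⟶ H ⊗ T' := Over.homMk g₂
      ((congrArg (g₂ ≫ ·) (Over.w (H ◁ q)).symm).trans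
        ((Category.assoc _ _ _).symm.trans (congrArg (· ≫ (H ⊗ T).hom) hg.symm)))
    exact congrArg (fun m => m.left) (comp_eq_of_res H x x q q a b (Over.OverMorphism.ext hg) (hx _))
  have : Epi (H ◁ q).left := Cov.epi _
  refine ⟨Over.homMk m ?_, Over.OverMorphism.ext hm⟩
  rw [← cancel_epi (H ◁ q).left, ← Category.assoc, hm, Over.w x, Over.w (H ◁ q)]

variable {A B X : Over S} [MonObj A] (ρ : MonAct A B) (a : MonAct A X) (o : 𝟙_ (Over S) ⟶ B)
  (V : X.left.Opens)

/-- The base changed to the base scheme. -/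
abbrev toBase (T : Over V.toScheme) : Over S := Over.mk (T.hom ≫ V.ι ≫ X.hom)

/-- The structure map as a point. -/
def basePt (T : Over V.toScheme) : toBase V T ⟶ X := Over.homMk (T.hom ≫ V.ι) (Category.assoc _ _ _)

/-- Maps over the open become maps over the base scheme. -/
def mapBase {T T' : Over V.toScheme} (f : T' ⟶ T) : toBase V T' ⟶ toBase V T :=
  Over.homMk f.left (by
    show f.left ≫ T.hom ≫ V.ι ≫ X.hom = T'.hom ≫ V.ι ≫ X.hom
    rw [← Category.assoc, Over.w f])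

theorem mapBase_basePt {T T' : Over V.toScheme} (f : T' ⟶ T) : mapBase V f ≫ basePt V T = basePt V T' := by
  apply Over.OverMorphism.ext
  show f.left ≫ T.hom ≫ V.ι = T'.hom ≫ V.ι
  rw [← Category.assoc, Over.w f]

/-- Equivariant maps with given value at the zero. -/
def eqvFam : Fam.{u, u} V.toScheme where
  obj T := {φ : (MonAct.eqvHom ρ a).obj (op (toBase V T)) //
    lift (toUnit (toBase V T) ≫ o) (𝟙 (toBase V T)) ≫ φ.1 = basePt V T}
  res {T T'} f φ := ⟨(MonAct.eqvHom ρ a).map (mapBase V f).op φ.1, by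
    show lift (toUnit _ ≫ o) (𝟙 _) ≫ (B ◁ mapBase V f) ≫ φ.1.1 = _
    rw [lift_whiskerLeft_assoc, Category.id_comp, ← mapBase_basePt V f,
      ← congrArg (mapBase V f ≫ ·) φ.2, comp_lift_assoc, Category.comp_id, ← Category.assoc, comp_toUnit]⟩
  res_id {T} φ := Subtype.ext (Subtype.ext (by
    show (B ◁ mapBase V (𝟙 T)) ≫ φ.1.1 = φ.1.1
    rw [show mapBase V (𝟙 T) = 𝟙 _ from Over.OverMorphism.ext rfl, MonoidalCategory.whiskerLeft_id,
      Category.id_comp]))
  res_comp {T T' T''} f g φ := Subtype.ext (Subtype.ext (by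
    show (B ◁ mapBase V (f ≫ g)) ≫ φ.1.1 = (B ◁ mapBase V f) ≫ (B ◁ mapBase V g) ≫ φ.1.1
    rw [show mapBase V (f ≫ g) = mapBase V f ≫ mapBase V g from Over.OverMorphism.ext rfl,
      MonoidalCategory.whiskerLeft_comp, Category.assoc]))

variable {ρ a o V}

theorem eqvFam_ext {T : Over V.toScheme} {x y : (eqvFam ρ a o V).obj T} (h : x.1.1 = y.1.1) : x = y :=
  Subtype.ext (Subtype.ext h)

theorem isOpenFamily_mapBase {T : Over V.toScheme} {κ : Type u} {U : κ → Over V.toScheme}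
    {j : ∀ i, U i ⟶ T} (h : IsOpenFamily U j) :
    IsOpenFamily (fun i => toBase V (U i)) (fun i => mapBase V (j i)) :=
  ⟨h.isOpenImmersion, h.covers⟩

/-- A test map of the base scheme landing in the open. -/
theorem exists_overOpen {T : Over V.toScheme} {κ : Type u} {U : κ → Over V.toScheme}
    {j : ∀ i, U i ⟶ T} {i k : κ} {Z : Over S} (p : Z ⟶ toBase V (U i)) (q : Z ⟶ toBase V (U k))
    (e : p ≫ mapBase V (j i) = q ≫ mapBase V (j k)) :
    ∃ (Z' : Over V.toScheme) (p' : Z' ⟶ U i) (q' : Z' ⟶ U k) (z : Z ⟶ toBase V Z'),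
      p' ≫ j i = q' ≫ j k ∧ z ≫ mapBase V p' = p ∧ z ≫ mapBase V q' = q := by
  have e' : p.left ≫ (j i).left = q.left ≫ (j k).left := congrArg Over.Hom.left e
  refine ⟨Over.mk (p.left ≫ (U i).hom), Over.homMk p.left rfl, Over.homMk q.left (by
    show q.left ≫ (U k).hom = p.left ≫ (U i).hom
    rw [← Over.w (j k), ← Over.w (j i), reassoc_of% e']), Over.homMk (𝟙 _) (by
    show 𝟙 _ ≫ (p.left ≫ (U i).hom) ≫ V.ι ≫ X.hom = Z.hom
    rw [Category.id_comp, Category.assoc]
    exact Over.w p), Over.OverMorphism.ext e', Over.OverMorphism.ext (Category.id_comp _),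
    Over.OverMorphism.ext (Category.id_comp _)⟩

theorem eqvFam_zarSep : (eqvFam ρ a o V).ZarSep := fun _ _ _ _ h _ _ e =>
  eqvFam_ext ((whiskerLeft_openFamily B (isOpenFamily_mapBase h)).hom_ext fun i =>
    congrArg (fun z => z.1.1) (e i))

theorem eqvFam_zarGlue : (eqvFam ρ a o V).ZarGlue := by
  intro T κ U j h x hc
  have h' := isOpenFamily_mapBase (X := X) (V := V) h
  obtain ⟨m, hm⟩ := mor_zarGlue B X (toBase V T) κ (fun i => toBase V (U i)) (fun i => mapBase V (j i)) h'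
    (fun i => (x i).1.1) fun i k Z p q e => by
      obtain ⟨Z', p', q', z, e₁, e₂, e₃⟩ := exists_overOpen p q e
      have := congrArg (fun w => (B ◁ z) ≫ w.1.1) (hc i k Z' p' q' e₁)
      show (B ◁ p) ≫ (x i).1.1 = (B ◁ q) ≫ (x k).1.1
      rw [← e₂, ← e₃, MonoidalCategory.whiskerLeft_comp_assoc, MonoidalCategory.whiskerLeft_comp_assoc]
      exact this
  have hm' : ∀ i, (B ◁ mapBase V (j i)) ≫ m = (x i).1.1 := hm
  have heq : MonAct.IsEquivariant (ρ.prod (MonAct.trivial A (toBase V T))) a m := by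
    refine (whiskerLeft_openFamily A (whiskerLeft_openFamily B h')).hom_ext fun i => ?_
    rw [← Category.assoc, ← MonAct.prod_trivial_act_whiskerLeft, Category.assoc, hm',
      ← MonoidalCategory.whiskerLeft_comp_assoc, hm']
    exact (x i).1.2
  refine ⟨⟨⟨m, heq⟩, h'.hom_ext fun i => ?_⟩, fun i => eqvFam_ext (hm' i)⟩
  rw [mapBase_basePt, ← (x i).2, ← hm', comp_lift_assoc, lift_whiskerLeft_assoc, Category.comp_id, Category.id_comp,
    ← Category.assoc, comp_toUnit]

theorem eqvFam_sep_desc {T T' : Over V.toScheme} (q : T' ⟶ T) [Cov q.left] :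
    (eqvFam ρ a o V).Sep q ∧ (eqvFam ρ a o V).Desc q := by
  have : Cov (mapBase (X := X) V q).left := ‹Cov q.left›
  have h1 := epi_whiskerLeft_of_cov B (mapBase (X := X) V q)
  have : Cov (B ◁ mapBase (X := X) V q).left :=
    Cov.of_isPullback (Groth.L25.HomScheme.isPullback_whiskerLeft B (mapBase (X := X) V q)).flip
  have h3 := epi_whiskerLeft_of_cov A (B ◁ mapBase (X := X) V q)
  refine ⟨fun x y e => eqvFam_ext ((cancel_epi (B ◁ mapBase V q)).1 (congrArg (fun z => z.1.1) e)), fun x hx => ?_⟩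
  obtain ⟨m, hm⟩ := exists_desc_whiskerLeft B X (mapBase V q) x.1.1 fun Z p r e => by
    have e' : p.left ≫ q.left = r.left ≫ q.left := congrArg Over.Hom.left e
    let Z' : Over V.toScheme := Over.mk (p.left ≫ T'.hom)
    let p' : Z' ⟶ T' := Over.homMk p.left rfl
    let r' : Z' ⟶ T' := Over.homMk r.left (by
      show r.left ≫ T'.hom = p.left ≫ T'.hom
      rw [← Over.w q, reassoc_of% e'])
    let z : Z ⟶ toBase V Z' := Over.homMk (𝟙 _) (by
      show 𝟙 _ ≫ (p.left ≫ T'.hom) ≫ V.ι ≫ X.hom = Z.hom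
      rw [Category.id_comp, Category.assoc]
      exact Over.w p)
    have ep : p = z ≫ mapBase V p' := Over.OverMorphism.ext (Category.id_comp _).symm
    have er : r = z ≫ mapBase V r' := Over.OverMorphism.ext (Category.id_comp _).symm
    rw [ep, er, MonoidalCategory.whiskerLeft_comp_assoc, MonoidalCategory.whiskerLeft_comp_assoc]
    exact congrArg (fun w => (B ◁ z) ≫ w.1.1) (hx Z' p' r' (Over.OverMorphism.ext e'))
  have heq : MonAct.IsEquivariant (ρ.prod (MonAct.trivial A (toBase V T))) a m := by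
    show _ ≫ m = _
    rw [← cancel_epi (A ◁ (B ◁ mapBase (X := X) V q)), ← Category.assoc, ← MonAct.prod_trivial_act_whiskerLeft,
      Category.assoc, hm, ← MonoidalCategory.whiskerLeft_comp_assoc, hm]
    exact x.1.2
  have : Epi (mapBase (X := X) V q).left := Cov.epi _
  have : Epi (mapBase (X := X) V q) := Over.epi_of_epi_left _
  refine ⟨⟨⟨m, heq⟩, ?_⟩, eqvFam_ext hm⟩
  rw [← cancel_epi (mapBase V q), mapBase_basePt, ← x.2, ← hm, comp_lift_assoc, lift_whiskerLeft_assoc,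
    Category.comp_id, Category.id_comp, ← Category.assoc, comp_toUnit]

theorem exists_restrict (U : X.left.Opens) (hU : (snd A X).left ⁻¹ᵁ U ≤ a.act.left ⁻¹ᵁ U) :
    ∃ aU : MonAct A (Over.mk (U.ι ≫ X.hom)),
      MonAct.IsEquivariant aU a (Over.homMk U.ι rfl : Over.mk (U.ι ≫ X.hom) ⟶ X) := by
  let j : Over.mk (U.ι ≫ X.hom) ⟶ X := Over.homMk U.ι rfl
  have hr : Set.range ((A ◁ j) ≫ a.act).left ⊆ Set.range U.ι := by
    rintro - ⟨p, rfl⟩
    rw [Scheme.Opens.range_ι]
    refine hU (x := (A ◁ j).left p) ?_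
    show (snd A X).left ((A ◁ j).left p) ∈ U
    have e : ((A ◁ j) ≫ snd A X).left p = (snd A _ ≫ j).left p :=
      congrArg (fun k : _ ⟶ X => k.left p) (whiskerLeft_snd A j)
    exact e ▸ (Scheme.Opens.range_ι U ▸ Set.mem_range_self _ : U.ι ((snd A _).left p) ∈ (U : Set X.left))
  let act : A ⊗ Over.mk (U.ι ≫ X.hom) ⟶ Over.mk (U.ι ≫ X.hom) :=
    Over.homMk (IsOpenImmersion.lift U.ι _ hr) (by
      show _ ≫ U.ι ≫ X.hom = _
      rw [IsOpenImmersion.lift_fac_assoc]
      exact Over.w ((A ◁ j) ≫ a.act))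
  have hact : act ≫ j = (A ◁ j) ≫ a.act := Over.OverMorphism.ext (IsOpenImmersion.lift_fac _ _ _)
  have : IsOpenImmersion j.left := inferInstanceAs (IsOpenImmersion U.ι)
  have : Mono j := Over.mono_of_mono_left j
  refine ⟨MonAct.mk' act (fun T x => ?_) (fun T g h x => ?_), hact⟩
  · rw [← cancel_mono j, Category.assoc, hact, lift_whiskerLeft_assoc, a.lift_one_act]
  · rw [← cancel_mono j]
    simp only [Category.assoc, hact, lift_whiskerLeft_assoc]
    rw [a.lift_mul_act]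

/-- Equivariant maps whose values at the zero lie in affine stable opens form a scheme, if they do so for these
opens. -/
theorem exists_representable_of_stable_cover
    (hB : ∀ (T : Over S) (K : Type u) [Field K] (_ : T.left ≅ Spec (CommRingCat.of K)) (W : (B ⊗ T).left.Opens),
      (snd A (B ⊗ T)).left ⁻¹ᵁ W ≤ (ρ.prod (MonAct.trivial A T)).act.left ⁻¹ᵁ W →
      (lift (toUnit T ≫ o) (𝟙 T)).left ⁻¹ᵁ W = ⊤ → W = ⊤)
    (hfix : ∀ (T : Over S) (φ : (MonAct.eqvHom ρ a).obj (op T)) (t : T.left), ∃ U : X.left.Opens,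
      (IsAffineOpen U ∧ (snd A X).left ⁻¹ᵁ U ≤ a.act.left ⁻¹ᵁ U) ∧
        (lift (toUnit T ≫ o) (𝟙 T) ≫ φ.1).left t ∈ U)
    (hrep : ∀ (U : Over S) [IsAffine U.left] (aU : MonAct A U),
      ∃ Z : Over S, IsAffine Z.left ∧ Nonempty ((MonAct.eqvHom ρ aU).RepresentableBy Z)) :
    ∃ Z : Over S, Nonempty ((MonAct.eqvHom ρ a).RepresentableBy Z) := by
  classical
  let κ := {U : X.left.Opens // IsAffineOpen U ∧ (snd A X).left ⁻¹ᵁ U ≤ a.act.left ⁻¹ᵁ U}
  let V : X.left.Opens := ⨆ U : κ, U.1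
  let P : κ → Over V.toScheme := fun U => Over.mk (X.left.homOfLE (show U.1 ≤ V from le_iSup (fun U : κ => U.1) U))
  have : ∀ U, IsOpenImmersion (P U).hom := fun U => inferInstanceAs (IsOpenImmersion (X.left.homOfLE (show U.1 ≤ V from le_iSup (fun U : κ => U.1) U)))
  have hP : ∀ v : V.toScheme, ∃ U, v ∈ Set.range (P U).hom := fun v => by
    obtain ⟨U, hU⟩ := TopologicalSpace.Opens.mem_iSup.1 v.2
    refine ⟨U, ⟨V.ι v, hU⟩, V.ι.injective ?_⟩
    rw [← Scheme.Hom.comp_apply]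
    show (X.left.homOfLE (show U.1 ≤ V from le_iSup (fun U : κ => U.1) U) ≫ V.ι) _ = _
    rw [X.left.homOfLE_ι]
    rfl
  choose aU haU using fun U : κ => exists_restrict (a := a) U.1 U.2.2
  choose Z hZ eZ using fun U : κ => (haveI : IsAffine (Over.mk (U.1.ι ≫ X.hom)).left := U.2.1
    hrep (Over.mk (U.1.ι ≫ X.hom)) (aU U))
  let e : ∀ U, (MonAct.eqvHom ρ (aU U)).RepresentableBy (Z U) := fun U => (eZ U).some
  let z₀ : ∀ U, Z U ⟶ Over.mk (U.1.ι ≫ X.hom) := fun U =>
    lift (toUnit (Z U) ≫ o) (𝟙 _) ≫ ((e U).homEquiv (𝟙 (Z U))).1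
  let ZV : κ → Over V.toScheme := fun U => Over.mk ((z₀ U).left ≫ (P U).hom)
  let r : ∀ U, ZV U ⟶ P U := fun U => Over.homMk (z₀ U).left rfl
  let jU : ∀ U : κ, Over.mk (U.1.ι ≫ X.hom) ⟶ X := fun U => Over.homMk U.1.ι rfl
  have hb : ∀ U, (ZV U).hom ≫ V.ι = (z₀ U).left ≫ U.1.ι := fun U => by
    show ((z₀ U).left ≫ X.left.homOfLE (show U.1 ≤ V from le_iSup (fun U : κ => U.1) U)) ≫ V.ι = _
    rw [Category.assoc, X.left.homOfLE_ι]
  let iZ : ∀ U, toBase V (ZV U) ⟶ Z U := fun U => Over.homMk (𝟙 _) (by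
    show 𝟙 _ ≫ (Z U).hom = (ZV U).hom ≫ V.ι ≫ X.hom
    rw [Category.id_comp, ← Category.assoc, hb, Category.assoc]
    exact (Over.w (z₀ U)).symm)
  let ξ : ∀ U, (eqvFam ρ a o V).obj (ZV U) := fun U =>
    ⟨(MonAct.eqvHom.postcomp ρ (jU U) (haU U)).app _ ((e U).homEquiv (iZ U)), by
      show lift (toUnit _ ≫ o) (𝟙 _) ≫ ((e U).homEquiv (iZ U)).1 ≫ jU U = _
      rw [show iZ U = iZ U ≫ 𝟙 _ from (Category.comp_id _).symm, (e U).homEquiv_comp]
      show lift (toUnit _ ≫ o) (𝟙 _) ≫ ((B ◁ iZ U) ≫ ((e U).homEquiv (𝟙 (Z U))).1) ≫ jU U = _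
      apply Over.OverMorphism.ext
      rw [Category.assoc, lift_whiskerLeft_assoc, Category.id_comp,
        show lift (toUnit _ ≫ o) (iZ U) = iZ U ≫ lift (toUnit (Z U) ≫ o) (𝟙 _) by
          rw [comp_lift, Category.comp_id, ← Category.assoc (iZ U), comp_toUnit]]
      show _ = (ZV U).hom ≫ V.ι
      rw [hb]
      simp only [z₀, Over.comp_left, Category.assoc]
      exact Category.id_comp _⟩
  have hξ : ∀ U, (eqvFam ρ a o V).IsRepOn (r U) (ξ U) := by
    intro U T p x
    have : IsOpenImmersion (jU U).left := inferInstanceAs (IsOpenImmersion U.1.ι)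
    have sq := Groth.L11.Magnet.isPullback_evalAt_open ρ (jU U) (haU U) o hB
    let u : toBase V T ⟶ Over.mk (U.1.ι ≫ X.hom) := Over.homMk p.left (by
      show p.left ≫ U.1.ι ≫ X.hom = T.hom ≫ V.ι ≫ X.hom
      rw [← Over.w p]
      show _ = (p.left ≫ X.left.homOfLE (show U.1 ≤ V from le_iSup (fun U : κ => U.1) U)) ≫ V.ι ≫ X.hom
      rw [Category.assoc, ← Category.assoc (X.left.homOfLE (show U.1 ≤ V from le_iSup (fun U : κ => U.1) U)), X.left.homOfLE_ι])
    have hu : u ≫ jU U = basePt V T := by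
      apply Over.OverMorphism.ext
      show p.left ≫ U.1.ι = T.hom ≫ V.ι
      rw [← Over.w p]
      show _ = (p.left ≫ X.left.homOfLE (show U.1 ≤ V from le_iSup (fun U : κ => U.1) U)) ≫ V.ι
      rw [Category.assoc, X.left.homOfLE_ι]
    obtain ⟨ψ, hψ₁, hψ₂⟩ := Types.exists_of_isPullback (sq.app (op (toBase V T))) x.1 u (x.2.trans hu.symm)
    let w : toBase V T ⟶ Z U := (e U).homEquiv.symm ψ
    have hw : w.left ≫ (z₀ U).left = p.left := by
      have : w ≫ z₀ U = u := by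
        show w ≫ lift (toUnit (Z U) ≫ o) (𝟙 _) ≫ _ = _
        rw [comp_lift_assoc, Category.comp_id, ← Category.assoc w, comp_toUnit, ← hψ₂,
          show ψ = (e U).homEquiv (w ≫ 𝟙 _) by rw [Category.comp_id, Equiv.apply_symm_apply], (e U).homEquiv_comp]
        show _ = lift (toUnit _ ≫ o) (𝟙 _) ≫ (B ◁ w) ≫ _
        rw [lift_whiskerLeft_assoc, Category.id_comp]
      exact congrArg Over.Hom.left this
    let aT : T ⟶ ZV U := Over.homMk w.left (by
      show w.left ≫ (z₀ U).left ≫ (P U).hom = T.hom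
      rw [← Category.assoc, hw, Over.w p])
    have haT : mapBase V aT ≫ iZ U = w := Over.OverMorphism.ext (Category.comp_id _)
    have hres : ∀ c : T ⟶ ZV U, ((eqvFam ρ a o V).res c (ξ U)).1 =
        (MonAct.eqvHom.postcomp ρ (jU U) (haU U)).app _ ((e U).homEquiv (mapBase V c ≫ iZ U)) := fun c => by
      rw [(e U).homEquiv_comp, NatTrans.naturality_apply]
      rfl
    refine ⟨aT, ⟨Over.OverMorphism.ext hw, ?_⟩, fun c hc => ?_⟩
    · refine Subtype.ext ?_
      rw [hres, haT, Equiv.apply_symm_apply]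
      exact hψ₁
    · have h1 := congrArg Subtype.val hc.2
      rw [hres] at h1
      have : (e U).homEquiv (mapBase V c ≫ iZ U) = ψ := by
        refine Limits.Types.ext_of_isPullback (sq.app (op (toBase V T))) (h1.trans hψ₁.symm) ?_
        refine Eq.trans ?_ hψ₂.symm
        show lift (toUnit _ ≫ o) (𝟙 _) ≫ ((e U).homEquiv (mapBase V c ≫ iZ U)).1 = u
        rw [← Category.comp_id (mapBase V c ≫ iZ U), (e U).homEquiv_comp]
        show lift _ _ ≫ (B ◁ _) ≫ _ = u
        rw [lift_whiskerLeft_assoc, Category.id_comp]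
        show lift (toUnit (toBase V T) ≫ o) (mapBase V c ≫ iZ U) ≫ _ = _
        rw [show lift (toUnit _ ≫ o) (mapBase V c ≫ iZ U) =
            (mapBase V c ≫ iZ U) ≫ lift (toUnit (Z U) ≫ o) (𝟙 _) by
              rw [comp_lift, Category.comp_id, ← Category.assoc (_ ≫ iZ U), comp_toUnit]]
        rw [Category.assoc]
        apply Over.OverMorphism.ext
        show (c.left ≫ 𝟙 _) ≫ (z₀ U).left = p.left
        rw [Category.comp_id]
        exact congrArg Over.Hom.left hc.1
      apply Over.OverMorphism.ext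
      have h2 : mapBase V c ≫ iZ U = w := (e U).homEquiv.injective (this.trans (Equiv.apply_symm_apply _ _).symm)
      exact ((Category.comp_id c.left).symm.trans (congrArg Over.Hom.left h2))
  obtain ⟨A₀, η₀, hη₀, -⟩ := Fam.exists_rep_openFamily (F := eqvFam ρ a o V) eqvFam_zarSep eqvFam_zarGlue
    (fun Q hQ T => (haveI : Cov (fst T Q).left := Cov.of_isPullback (IsPullback.of_hasPullback T.hom Q.hom).flip
      (eqvFam_sep_desc (fst T Q)).1))
    (fun Q hQ T => (haveI : Cov (fst T Q).left := Cov.of_isPullback (IsPullback.of_hasPullback T.hom Q.hom).flip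
      (eqvFam_sep_desc (fst T Q)).2))
    P hP r ξ hξ fun U => (haveI := hZ U; haveI : IsAffine (P U).left := U.2.1;
      haveI : IsAffine (ZV U).left := hZ U; isAffineHom_of_isAffine _)
  refine ⟨toBase V A₀, ⟨?_⟩⟩
  have hfac : ∀ {T : Over S} (φ : (MonAct.eqvHom ρ a).obj (op T)), ∃ (T' : Over V.toScheme) (t : T ⟶ toBase V T')
      (t' : toBase V T' ⟶ T), t ≫ t' = 𝟙 _ ∧ t' ≫ t = 𝟙 _ ∧
        t ≫ basePt V T' = lift (toUnit T ≫ o) (𝟙 T) ≫ φ.1 := by
    intro T φ
    let v := lift (toUnit T ≫ o) (𝟙 T) ≫ φ.1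
    have hv : Set.range v.left ⊆ Set.range V.ι := by
      rintro - ⟨x, rfl⟩
      obtain ⟨U, hU, hxU⟩ := hfix T φ x
      rw [Scheme.Opens.range_ι]
      exact TopologicalSpace.Opens.mem_iSup.2 ⟨⟨U, hU⟩, hxU⟩
    let T' : Over V.toScheme := Over.mk (IsOpenImmersion.lift V.ι v.left hv)
    have hw : (toBase V T').hom = T.hom := by
      show IsOpenImmersion.lift V.ι v.left hv ≫ V.ι ≫ X.hom = _
      rw [IsOpenImmersion.lift_fac_assoc]
      exact Over.w v
    exact ⟨T', Over.homMk (𝟙 _) ((Category.id_comp _).trans hw), Over.homMk (𝟙 _) ((Category.id_comp _).trans hw.symm),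
      Over.OverMorphism.ext (Category.id_comp _), Over.OverMorphism.ext (Category.id_comp _),
      Over.OverMorphism.ext ((Category.id_comp _).trans (IsOpenImmersion.lift_fac _ _ _))⟩
  refine
    { homEquiv := fun {T} => Equiv.ofBijective (fun z => (MonAct.eqvHom ρ a).map z.op η₀.1) ⟨?_, ?_⟩
      homEquiv_comp := fun g z => ?_ }
  · intro z z' h
    let T' : Over V.toScheme := Over.mk (z.left ≫ A₀.hom)
    have hv : ∀ y : T ⟶ toBase V A₀, lift (toUnit T ≫ o) (𝟙 T) ≫ ((MonAct.eqvHom ρ a).map y.op η₀.1).1 =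
        y ≫ basePt V A₀ := fun y => by
      show lift _ _ ≫ (B ◁ y) ≫ η₀.1.1 = _
      rw [lift_whiskerLeft_assoc, Category.id_comp, ← congrArg (y ≫ ·) η₀.2, comp_lift_assoc, Category.comp_id,
        ← Category.assoc y, comp_toUnit]
    have e₁ : z.left ≫ A₀.hom = z'.left ≫ A₀.hom := by
      rw [← cancel_mono V.ι, Category.assoc, Category.assoc]
      exact congrArg Over.Hom.left ((hv z).symm.trans ((congrArg (fun φ => lift _ _ ≫ φ.1) h).trans (hv z')))
    let c : T' ⟶ A₀ := Over.homMk z.left rfl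
    let c' : T' ⟶ A₀ := Over.homMk z'.left e₁.symm
    let t' : toBase V T' ⟶ T := Over.homMk (𝟙 _) (by
      show 𝟙 _ ≫ T.hom = (z.left ≫ A₀.hom) ≫ V.ι ≫ X.hom
      rw [Category.id_comp, Category.assoc]
      exact (Over.w z).symm)
    have ec : mapBase V c = t' ≫ z := Over.OverMorphism.ext (Category.id_comp _).symm
    have ec' : mapBase V c' = t' ≫ z' := Over.OverMorphism.ext (Category.id_comp _).symm
    have : c = c' := hη₀.ext (eqvFam_ext (by
      show (B ◁ mapBase V c) ≫ η₀.1.1 = (B ◁ mapBase V c') ≫ η₀.1.1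
      rw [ec, ec', MonoidalCategory.whiskerLeft_comp_assoc, MonoidalCategory.whiskerLeft_comp_assoc]
      exact congrArg (fun φ => (B ◁ t') ≫ φ.1) h))
    exact Over.OverMorphism.ext (congrArg (fun k => k.left) this)
  · intro φ
    obtain ⟨T', t, t', htt', ht't, ht⟩ := hfac φ
    obtain ⟨c, hc, -⟩ := hη₀ T' ⟨(MonAct.eqvHom ρ a).map t'.op φ, by
      show lift _ _ ≫ (B ◁ t') ≫ φ.1 = _
      rw [lift_whiskerLeft_assoc, Category.id_comp,
        show lift (toUnit _ ≫ o) t' = t' ≫ lift (toUnit T ≫ o) (𝟙 T) by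
          rw [comp_lift, Category.comp_id, ← Category.assoc t', comp_toUnit],
        Category.assoc, ← ht, reassoc_of% ht't]⟩
    refine ⟨t ≫ mapBase V c, ?_⟩
    show (MonAct.eqvHom ρ a).map (t ≫ mapBase V c).op η₀.1 = φ
    rw [op_comp, Functor.map_comp_apply,
      show (MonAct.eqvHom ρ a).map (mapBase V c).op η₀.1 = _ from congrArg Subtype.val hc,
      ← Functor.map_comp_apply, ← op_comp, htt', op_id, Functor.map_id_apply]
  · show (MonAct.eqvHom ρ a).map (g ≫ z).op η₀.1 = _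
    rw [op_comp, Functor.map_comp_apply]
    rfl

end Groth.L09.MagnetAtlas
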